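import Groth.Agent.HilbRepLib.Main

/-! Families of ideals of fixed colength in a finite local algebra over the affine line. -/

set_option autoImplicit false
set_option backward.isDefEq.respectTransparency false
set_option backward.isDefEq.respectTransparency.types false
set_option linter.style.haveILetI false
set_option maxHeartbeats 4000000
set_option synthInstance.maxHeartbeats 200000

universe u

open CategoryTheory AlgebraicGeometry TensorProduct Module Opposite

namespace Groth.Agent.HilbConnLib

open HilbRepLib HilbDescLib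

section algebra

variable {K C : Type u} [Field K] [CommRing C] [Algebra K C] {m : Ideal C}

lemma exists_socle_mod (hm : IsNilpotent m) (N : Ideal C) {J : Ideal C} (h : ¬ J ≤ N) :
    ∃ t ∈ J, t ∉ N ∧ ∀ μ ∈ m, μ * t ∈ N := by
  classical
  obtain ⟨l, hl⟩ := hm
  have hex : ∃ e, m ^ e * J ≤ N := ⟨l, by rw [hl, zero_mul]; exact bot_le⟩
  have h0 : Nat.find hex ≠ 0 := fun h0 => h (by
    have := Nat.find_spec hex
    rwa [h0, pow_zero, one_mul] at this)
  obtain ⟨e, he⟩ := Nat.exists_eq_succ_of_ne_zero h0
  have hnot : ¬ m ^ e * J ≤ N := Nat.find_min hex (by omega)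
  obtain ⟨t, ht, htN⟩ := SetLike.not_le_iff_exists.mp hnot
  refine ⟨t, (Ideal.mul_le_right : m ^ e * J ≤ J) ht, htN, fun μ hμ => ?_⟩
  have := Nat.find_spec hex
  rw [he, pow_succ', mul_assoc] at this
  exact this (Ideal.mul_mem_mul hμ ht)

/-- The ideal obtained by adding a socle element modulo `N`. -/
lemma mem_sup_span (hdec : ∀ c : C, ∃ a : K, c - algebraMap K C a ∈ m) {N : Ideal C} {t : C}
    (ht : ∀ μ ∈ m, μ * t ∈ N) :
    (N ⊔ Ideal.span {t}).restrictScalars K = N.restrictScalars K ⊔ Submodule.span K {t} := by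
  refine le_antisymm ?_ (sup_le (fun x hx => Ideal.mem_sup_left hx) ?_)
  · intro x hx
    obtain ⟨y, hy, z, hz, rfl⟩ := Submodule.mem_sup.mp hx
    obtain ⟨c, rfl⟩ := Ideal.mem_span_singleton'.mp hz
    obtain ⟨a, ha⟩ := hdec c
    rw [show y + c * t = (y + (c - algebraMap K C a) * t) + a • t by rw [Algebra.smul_def]; ring]
    exact Submodule.add_mem_sup (show _ ∈ N from N.add_mem hy (ht _ ha))
      (Submodule.smul_mem _ a (Submodule.mem_span_singleton_self t))
  · rw [Submodule.span_le, Set.singleton_subset_iff]
    exact Ideal.mem_sup_right (Ideal.mem_span_singleton_self t)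

variable [Module.Finite K C]

lemma finrank_sup_span (hdec : ∀ c : C, ∃ a : K, c - algebraMap K C a ∈ m) {N : Ideal C} {t : C}
    (htN : t ∉ N) (ht : ∀ μ ∈ m, μ * t ∈ N) :
    finrank K ((N ⊔ Ideal.span {t}).restrictScalars K) = finrank K (N.restrictScalars K) + 1 := by
  rw [mem_sup_span hdec ht]
  have hdisj : Disjoint (N.restrictScalars K) (Submodule.span K {t}) := by
    rw [Submodule.disjoint_span_singleton]
    intro h
    exact absurd h htN
  have h := Submodule.finrank_sup_add_finrank_inf_eq (N.restrictScalars K) (Submodule.span K {t})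
  rw [hdisj.eq_bot, finrank_bot, add_zero, finrank_span_singleton (fun h : t = 0 => htN (h ▸ N.zero_mem))] at h
  exact h

/-- An elementary step: two ideals obtained from one ideal by adding socle elements. -/
def IsStep (m : Ideal C) (I I' : Ideal C) : Prop :=
  ∃ (N : Ideal C) (s t : C), s ∉ N ∧ t ∉ N ∧ (∀ μ ∈ m, μ * s ∈ N) ∧ (∀ μ ∈ m, μ * t ∈ N) ∧
    I = N ⊔ Ideal.span {s} ∧ I' = N ⊔ Ideal.span {t}

theorem connected_of_steps (hm : IsNilpotent m) (hdec : ∀ c : C, ∃ a : K, c - algebraMap K C a ∈ m)
    (P : Ideal C → Ideal C → Prop) (hrefl : ∀ I, P I I) (htrans : ∀ {I I' I''}, P I I' → P I' I'' → P I I'')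
    (f : ℕ) (hstep : ∀ I I' : Ideal C, finrank K (I.restrictScalars K) = f → IsStep m I I' → P I I') :
    ∀ I J : Ideal C, finrank K (I.restrictScalars K) = f → finrank K (J.restrictScalars K) = f → P I J := by
  haveI : IsNoetherian K C := inferInstance
  haveI : IsNoetherianRing C := isNoetherian_of_tower K ‹_›
  intro I J hI hJ
  generalize hd : f - finrank K ((I ⊓ J).restrictScalars K) = d
  induction d using Nat.strong_induction_on generalizing I with
  | _ d ih =>
    by_cases hIJ : I ≤ J
    · have : I.restrictScalars K = J.restrictScalars K :=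
        Submodule.eq_of_le_of_finrank_eq hIJ (hI.trans hJ.symm)
      rw [Submodule.restrictScalars_injective K _ _ this]
      exact hrefl J
    -- a maximal ideal between the intersection and `I`
    obtain ⟨N, ⟨hMN, hNI⟩, hmax⟩ := set_has_maximal_iff_noetherian.mpr ‹IsNoetherianRing C›
      {N : Ideal C | I ⊓ J ≤ N ∧ N < I} ⟨I ⊓ J, le_rfl, inf_lt_left.mpr hIJ⟩
    obtain ⟨s, hsI, hsN, hs⟩ := exists_socle_mod hm N (J := I) hNI.not_ge
    have hIeq : I = N ⊔ Ideal.span {s} := by
      have hle : N ⊔ Ideal.span {s} ≤ I := sup_le hNI.le ((Ideal.span_singleton_le_iff_mem I).mpr hsI)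
      refine (eq_or_lt_of_le hle).elim Eq.symm fun hlt => absurd ?_ (hmax _ ⟨hMN.trans le_sup_left, hlt⟩)
      exact lt_of_le_of_ne le_sup_left fun h => hsN (h ▸ Ideal.mem_sup_right (Ideal.mem_span_singleton_self s))
    have hNf : finrank K (N.restrictScalars K) + 1 = f := by
      rw [← finrank_sup_span hdec hsN hs, ← hIeq, hI]
    have hJN : ¬ J ≤ N := fun h => by
      have := Submodule.finrank_mono (R := K) (show J.restrictScalars K ≤ N.restrictScalars K from h)
      omega
    obtain ⟨t, htJ, htN, ht⟩ := exists_socle_mod hm N hJN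
    set I' := N ⊔ Ideal.span {t} with hI'
    have hI'f : finrank K (I'.restrictScalars K) = f := by rw [finrank_sup_span hdec htN ht, hNf]
    refine htrans (hstep I I' hI ⟨N, s, t, hsN, htN, hs, ht, hIeq, rfl⟩) (ih _ ?_ I' hI'f rfl)
    have hlt : (I ⊓ J).restrictScalars K < (I' ⊓ J).restrictScalars K := by
      refine lt_of_le_of_ne (fun x hx => ⟨Ideal.mem_sup_left (hMN hx), hx.2⟩) fun h => htN (hMN ?_)
      have : t ∈ (I' ⊓ J).restrictScalars K := ⟨Ideal.mem_sup_right (Ideal.mem_span_singleton_self t), htJ⟩
      rwa [← h] at this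
    have h1 := Submodule.finrank_lt_finrank_of_lt hlt
    have h2 := Submodule.finrank_mono (R := K) (show (I' ⊓ J).restrictScalars K ≤ I'.restrictScalars K from fun x hx => hx.1)
    omega

end algebra

section family

variable (k K R P : Type u) [Field k] [Field K] [Algebra k K] [CommRing R] [Algebra k R]
  [CommRing P] [Algebra K P] [Algebra k P] [IsScalarTower k K P]

/-- The constant family over a base. -/
noncomputable def toLine : K ⊗[k] R →+* P ⊗[k] R :=
  (Algebra.TensorProduct.map ((Algebra.ofId K P).restrictScalars k) (AlgHom.id k R)).toRingHom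

variable {k K R P}

/-- The fibre at a rational point of the base. -/
noncomputable def atPoint (ev : P →ₐ[K] K) : P ⊗[k] R →+* K ⊗[k] R :=
  (Algebra.TensorProduct.map (ev.restrictScalars k) (AlgHom.id k R)).toRingHom

lemma atPoint_toLine (ev : P →ₐ[K] K) (c : K ⊗[k] R) : atPoint ev (toLine k K R P c) = c := by
  induction c using TensorProduct.induction_on with
  | zero => simp
  | tmul x r => simp [atPoint, toLine]
  | add x y hx hy => rw [map_add, map_add, hx, hy]

lemma toLine_smul (a : K) (c : K ⊗[k] R) : toLine k K R P (a • c) = (algebraMap K P a) • toLine k K R P c := by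
  induction c using TensorProduct.induction_on with
  | zero => simp
  | tmul x r =>
    rw [TensorProduct.smul_tmul', smul_eq_mul]
    simp [toLine, TensorProduct.smul_tmul', map_mul, Algebra.smul_def]
  | add x y hx hy => rw [smul_add, map_add, hx, hy, map_add, smul_add]

theorem exists_line_family [Module.Finite k R] {m : Ideal (K ⊗[k] R)}
    (hdec : ∀ c : K ⊗[k] R, ∃ a : K, c - algebraMap K (K ⊗[k] R) a ∈ m)
    {I I' : Ideal (K ⊗[k] R)} (n : ℕ)
    (x : P) (e0 e1 : P →ₐ[K] K) (he0 : e0 x = 0) (he1 : e1 x = 1)
    (hn : finrank K ((K ⊗[k] R) ⧸ I.restrictScalars K) = n) (hstep : IsStep m I I') :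
    I = I' ∨ ∃ J : Ideal (P ⊗[k] R),
      Nonempty (((P ⊗[k] R) ⧸ J.restrictScalars P) ≃ₗ[P] (Fin n → P)) ∧
        J.map (atPoint e0) = I ∧ J.map (atPoint e1) = I' := by
  classical
  obtain ⟨N, s, t, hsN, htN, hs, ht, rfl, rfl⟩ := hstep
  let NK := N.restrictScalars K
  let π := NK.mkQ
  by_cases hdep : π t - π s ∈ Submodule.span K {π s}
  · left
    obtain ⟨a, ha⟩ := Submodule.mem_span_singleton.mp hdep
    have hts : t - (a + 1) • s ∈ N := by
      have : π (t - (a + 1) • s) = 0 := by rw [map_sub, map_smul, add_smul, one_smul, ha]; abel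
      exact (Submodule.Quotient.mk_eq_zero NK).mp this
    have ha1 : a + 1 ≠ 0 := fun h => htN (by rwa [h, zero_smul, sub_zero] at hts)
    refine le_antisymm (sup_le le_sup_left ?_) (sup_le le_sup_left ?_) <;> rw [Ideal.span_singleton_le_iff_mem]
    · have h1 : (a + 1) • s ∈ N ⊔ Ideal.span {t} := by
        rw [show (a + 1) • s = t - (t - (a + 1) • s) by abel]
        exact Ideal.sub_mem _ (Ideal.mem_sup_right (Ideal.mem_span_singleton_self t)) (Ideal.mem_sup_left hts)
      have h2 := ((N ⊔ Ideal.span {t}).restrictScalars K).smul_mem (a + 1)⁻¹ h1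
      rwa [smul_smul, inv_mul_cancel₀ ha1, one_smul] at h2
    · rw [show t = (t - (a + 1) • s) + (a + 1) • s by abel]
      exact Ideal.add_mem _ (Ideal.mem_sup_left hts)
        (((N ⊔ Ideal.span {s}).restrictScalars K).smul_mem _ (Ideal.mem_sup_right (Ideal.mem_span_singleton_self s)))
  right
  set sv := π s with hsv
  set dv := π t - π s with hdv
  have hsd : sv ∉ Submodule.span K {dv} := fun h => by
    obtain ⟨a, ha⟩ := Submodule.mem_span_singleton.mp h
    rcases eq_or_ne a 0 with rfl | ha0
    · exact hsN ((Submodule.Quotient.mk_eq_zero NK).mp (by rw [← Submodule.mkQ_apply, ← show sv = π s from rfl, ← ha, zero_smul]))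
    · exact hdep (Submodule.mem_span_singleton.mpr ⟨a⁻¹, by rw [← ha, smul_smul, inv_mul_cancel₀ ha0, one_smul]⟩)
  obtain ⟨l₀, hl₀, hld⟩ := Submodule.exists_dual_map_eq_bot_of_notMem hsd inferInstance
  let l : ((K ⊗[k] R) ⧸ NK) →ₗ[K] K := (l₀ sv)⁻¹ • l₀
  have hls : l sv = 1 := inv_mul_cancel₀ hl₀
  have hldv : l dv = 0 := by
    have : l₀ dv = 0 := (Submodule.mem_bot K).mp (hld ▸ Submodule.mem_map_of_mem (Submodule.mem_span_singleton_self dv))
    show (l₀ sv)⁻¹ * l₀ dv = 0
    rw [this, mul_zero]
  let W := LinearMap.ker l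
  let pr : ((K ⊗[k] R) ⧸ NK) →ₗ[K] W :=
    (LinearMap.id - l.smulRight sv).codRestrict W fun v => by
      simp [W, LinearMap.mem_ker, map_sub, hls]
  have hpr : ∀ v, ((pr v : W) : (K ⊗[k] R) ⧸ NK) = v - l v • sv := fun v => rfl
  have hWn : finrank K W = n := by
    have hsurj : Function.Surjective l := fun a => ⟨a • sv, by rw [map_smul, hls, smul_eq_mul, mul_one]⟩
    have h1 := LinearMap.finrank_range_add_finrank_ker l
    rw [LinearMap.range_eq_top.mpr hsurj, finrank_top, finrank_self] at h1
    have h2 : finrank K ((K ⊗[k] R) ⧸ NK) + finrank K (N.restrictScalars K) = finrank K (K ⊗[k] R) :=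
      Submodule.finrank_quotient_add_finrank NK
    have h3 := Submodule.finrank_quotient_add_finrank ((N ⊔ Ideal.span {s}).restrictScalars K)
    rw [finrank_sup_span hdec hsN hs, hn] at h3
    show finrank K W = n
    change 1 + finrank K W = finrank K ((K ⊗[k] R) ⧸ NK) at h1
    omega
  let bW := (Module.finBasisOfFinrankEq K W hWn)
  let dW : W := ⟨dv, hldv⟩
  -- the functional and the ideal of the family
  let co : (K ⊗[k] R) →ₗ[K] (Fin n → K) := bW.equivFun.toLinearMap ∘ₗ pr ∘ₗ π
  let f : R →ₗ[k] (Fin n → P) :=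
    { toFun := fun r j => algebraMap K P (co ((1 : K) ⊗ₜ r) j) -
        algebraMap K P (l (π ((1 : K) ⊗ₜ r)) * bW.repr dW j) * x
      map_add' := fun r r' => funext fun j => by
        simp only [TensorProduct.tmul_add, map_add, Pi.add_apply, add_mul]; ring
      map_smul' := fun a r => funext fun j => by
        simp only [TensorProduct.tmul_smul, RingHom.id_apply, Pi.smul_apply, LinearMap.map_smul_of_tower]
        rw [Algebra.smul_def, Algebra.smul_def, Algebra.smul_def, IsScalarTower.algebraMap_apply k K P]
        simp only [map_mul]; ring }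
  let φ : P ⊗[k] R →ₗ[P] (Fin n → P) := f.liftBaseChange P
  have hφ : ∀ c, φ (toLine k K R P c) = fun j => algebraMap K P (co c j) -
      algebraMap K P (l (π c) * bW.repr dW j) * x := by
    intro c
    induction c using TensorProduct.induction_on with
    | zero => ext j; simp
    | tmul y r =>
      ext1 j
      have h1 : φ (toLine k K R P ((1 : K) ⊗ₜ[k] r)) = f r := by
        simp [φ, toLine]
      rw [show y ⊗ₜ[k] r = y • ((1 : K) ⊗ₜ[k] r) by rw [TensorProduct.smul_tmul', smul_eq_mul, mul_one],
        toLine_smul, map_smul, h1, map_smul co, map_smul π, map_smul l, Pi.smul_apply, Pi.smul_apply, smul_eq_mul, smul_eq_mul]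
      show algebraMap K P y * (_ - _) = _
      simp only [smul_eq_mul, map_mul]
      ring
    | add y z hy hz => ext j; rw [map_add, map_add, hy, hz]; simp only [map_add, Pi.add_apply, add_mul]; ring
  let v : P ⊗[k] R := toLine k K R P s + x • toLine k K R P (t - s)
  let S : Set (P ⊗[k] R) := toLine k K R P '' (N : Set (K ⊗[k] R)) ∪ {v}
  let T : Submodule P (P ⊗[k] R) := Submodule.span P S
  have hmulι : ∀ c, ∀ z ∈ T, toLine k K R P c * z ∈ T := by
    intro c z hx
    induction hx using Submodule.span_induction with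
    | mem y hy =>
      rcases hy with ⟨y, hy, rfl⟩ | rfl
      · rw [← map_mul]; exact Submodule.subset_span (Or.inl ⟨_, N.mul_mem_left c hy, rfl⟩)
      · obtain ⟨a, ha⟩ := hdec c
        have e : toLine k K R P c * v = algebraMap K P a • v + (toLine k K R P ((c - algebraMap K _ a) * s) +
            x • toLine k K R P ((c - algebraMap K _ a) * (t - s))) := by
          rw [show toLine k K R P c = algebraMap K P a • 1 + toLine k K R P (c - algebraMap K _ a) by
            rw [← map_one (toLine k K R P), ← toLine_smul, ← map_add, ← Algebra.algebraMap_eq_smul_one, add_sub_cancel]]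
          simp only [v, add_mul, smul_mul_assoc, one_mul, mul_add, mul_smul_comm, map_mul]
          rw [smul_add, smul_add, smul_comm (algebraMap K P a) x]
          abel
        rw [e]
        exact T.add_mem (T.smul_mem _ (Submodule.subset_span (Or.inr rfl)))
          (T.add_mem (Submodule.subset_span (Or.inl ⟨_, hs _ ha, rfl⟩))
            (T.smul_mem _ (Submodule.subset_span (Or.inl ⟨_, by rw [mul_sub]; exact N.sub_mem (ht _ ha) (hs _ ha), rfl⟩))))
    | zero => rw [mul_zero]; exact T.zero_mem
    | add y z _ _ hy hz => rw [mul_add]; exact T.add_mem hy hz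
    | smul p y _ hy => rw [mul_smul_comm]; exact T.smul_mem p hy
  have hJT : (Ideal.span S).restrictScalars P = T := by
    refine le_antisymm (fun z hx => ?_) (Submodule.span_le.mpr fun z hx => Ideal.subset_span hx)
    rw [Submodule.restrictScalars_mem] at hx
    induction hx using Submodule.span_induction with
    | mem y hy => exact Submodule.subset_span hy
    | zero => exact T.zero_mem
    | add y z _ _ hy hz => exact T.add_mem hy hz
    | smul c y _ hy =>
      rw [smul_eq_mul]
      induction c using TensorProduct.induction_on with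
      | zero => rw [zero_mul]; exact T.zero_mem
      | add c c' h h' => rw [add_mul]; exact T.add_mem h h'
      | tmul p r =>
        rw [show p ⊗ₜ[k] r = p • toLine k K R P ((1 : K) ⊗ₜ[k] r) by simp [toLine, TensorProduct.smul_tmul'], smul_mul_assoc]
        exact T.smul_mem p (hmulι _ y hy)
  have hcoN : ∀ c ∈ N, π c = 0 := fun c hc => (Submodule.Quotient.mk_eq_zero NK).mpr hc
  have hTker : T ≤ LinearMap.ker φ := Submodule.span_le.mpr fun z hx => by
    rcases hx with ⟨y, hy, rfl⟩ | rfl
    · ext j; simp [hφ, co, hcoN y hy]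
    · ext j
      have e1 : π (t - s) = dv := map_sub π t s
      have e2 : pr sv = 0 := Subtype.ext (by rw [hpr, hls, one_smul, sub_self]; rfl)
      have e3 : pr dv = dW := Subtype.ext (by rw [hpr, hldv, zero_smul, sub_zero])
      simp only [v, map_add, map_smul, hφ, Pi.add_apply, Pi.smul_apply, smul_eq_mul, Pi.zero_apply]
      simp only [co, LinearMap.comp_apply, ← hsv, e1, e2, e3, hls, hldv, map_zero, Pi.zero_apply,
        LinearEquiv.coe_coe, Module.Basis.equivFun_apply, one_mul, zero_mul, map_one]
      ring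
  choose e he using fun j => NK.mkQ_surjective (bW j : (K ⊗[k] R) ⧸ NK)
  have hφe : ∀ j, φ (toLine k K R P (e j)) = Pi.single j 1 := fun j => by
    have e1 : l (π (e j)) = 0 := by rw [show π (e j) = bW j from he j]; exact (bW j).2
    have e2 : pr (π (e j)) = bW j := Subtype.ext (by rw [hpr, e1, zero_smul, sub_zero]; exact he j)
    ext i
    rw [hφ]
    show algebraMap K P (bW.repr (pr (π (e j))) i) - algebraMap K P (l (π (e j)) * bW.repr dW i) * x = _
    rw [e1, e2, Module.Basis.repr_self, zero_mul, map_zero, zero_mul, sub_zero]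
    rcases eq_or_ne i j with rfl | h
    · rw [Finsupp.single_eq_same, Pi.single_eq_same, map_one]
    · rw [Finsupp.single_eq_of_ne h, Pi.single_eq_of_ne h, map_zero]
  let σ : (Fin n → P) →ₗ[P] P ⊗[k] R := Fintype.linearCombination P fun j => toLine k K R P (e j)
  have hσ : φ ∘ₗ σ = LinearMap.id := by
    refine (Pi.basisFun P (Fin n)).ext fun j => ?_
    simp [σ, hφe, Fintype.linearCombination_apply_single]
  have hgen : ∀ c, toLine k K R P c ∈ T ⊔ LinearMap.range σ := by
    intro c
    have hd : toLine k K R P (t - s) ∈ T ⊔ LinearMap.range σ ∧ ∀ w : W, ∀ c, π c = w → toLine k K R P c ∈ T ⊔ LinearMap.range σ := by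
      have key : ∀ w : W, ∀ c, π c = w → toLine k K R P c ∈ T ⊔ LinearMap.range σ := by
        intro w c hc
        have hmem : c - ∑ j, bW.repr w j • e j ∈ N := by
          refine (Submodule.Quotient.mk_eq_zero NK).mp ?_
          show π _ = 0
          rw [map_sub, map_sum, hc, sub_eq_zero]
          have h := congrArg Subtype.val (bW.sum_repr w)
          rw [Submodule.coe_sum] at h
          refine h.symm.trans (Finset.sum_congr rfl fun j _ => ?_)
          rw [map_smul, Submodule.coe_smul, show π (e j) = bW j from he j]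
        rw [show c = (c - ∑ j, bW.repr w j • e j) + ∑ j, bW.repr w j • e j by abel, map_add, map_sum]
        refine add_mem (Submodule.mem_sup_left (Submodule.subset_span (Or.inl ⟨_, hmem, rfl⟩)))
          (Submodule.mem_sup_right ⟨fun j => algebraMap K P (bW.repr w j), ?_⟩)
        simp [σ, Fintype.linearCombination_apply, toLine_smul]
      exact ⟨key dW _ (map_sub π t s), key⟩
    have hsmem : toLine k K R P s ∈ T ⊔ LinearMap.range σ := by
      rw [show toLine k K R P s = v - x • toLine k K R P (t - s) from (add_sub_cancel_right _ _).symm]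
      exact sub_mem (Submodule.mem_sup_left (Submodule.subset_span (Or.inr rfl))) (Submodule.smul_mem _ _ hd.1)
    rw [show c = (c - l (π c) • s) + l (π c) • s by abel, map_add, toLine_smul]
    exact add_mem (hd.2 (pr (π c)) _ (by rw [map_sub, map_smul, hpr])) (Submodule.smul_mem _ _ hsmem)
  have hker : LinearMap.ker φ = T := by
    refine le_antisymm (fun z hx => ?_) hTker
    have hx' : z ∈ T ⊔ LinearMap.range σ := by
      clear hx
      induction z using TensorProduct.induction_on with
      | zero => exact zero_mem _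
      | tmul p r =>
        rw [show p ⊗ₜ[k] r = p • toLine k K R P ((1 : K) ⊗ₜ[k] r) by simp [toLine, TensorProduct.smul_tmul']]
        exact Submodule.smul_mem _ p (hgen _)
      | add a b ha hb => exact add_mem ha hb
    obtain ⟨y, hy, _, ⟨p, rfl⟩, rfl⟩ := Submodule.mem_sup.mp hx'
    have : p = 0 := by
      rw [LinearMap.mem_ker, map_add, LinearMap.mem_ker.mp (hTker hy), zero_add] at hx
      exact (LinearMap.congr_fun hσ p).symm.trans hx
    rw [this, map_zero, add_zero]; exact hy
  refine ⟨Ideal.span S, ⟨(Submodule.quotEquivOfEq _ _ (hJT.trans hker.symm)).trans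
    (φ.quotKerEquivOfSurjective fun p => ⟨σ p, LinearMap.congr_fun hσ p⟩)⟩, ?_, ?_⟩
  all_goals
    rw [Ideal.map_span, Set.image_union, Set.image_image, Set.image_singleton, Ideal.span_union]
    simp only [atPoint_toLine, Set.image_id', Ideal.span_eq]
    congr 2
    simp only [v, map_add, Algebra.smul_def, map_mul, atPoint_toLine]
    simp [atPoint, he0, he1, ← Algebra.TensorProduct.one_def]

end family

end Groth.Agent.HilbConnLib
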